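import Mathlib
import Cfsg.Agent.Lib.Helper8.PG.Defs
import Cfsg.Agent.Lib.Helper85.OCls.Free

set_option autoImplicit false

/-! Project PG (S2474, coordinator helper8), package CONG. -/

namespace Cfsg.Agent.Lib.Helper38.PG

open Cfsg.Agent.Lib.Helper8.PG Matrix

universe u

theorem quadFormOdd_smul {F : Type u} [Field F] (n : ℕ) (a : F) (v : OI n → F) :
    Cfsg.quadFormOdd n F (a • v) = a ^ 2 * Cfsg.quadFormOdd n F v := by
  unfold Cfsg.quadFormOdd
  rw [mul_add, Finset.mul_sum]
  congr 1
  · simp only [Pi.smul_apply, smul_eq_mul]; ring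
  · apply Finset.sum_congr rfl
    intro i _
    simp only [Pi.smul_apply, smul_eq_mul]; ring

theorem two_ne_zero_of_odd_card {F : Type u} [Field F] [Fintype F]
    (hq : Odd (Fintype.card F)) : (2 : F) ≠ 0 := by
  intro h2
  have : CharP F 2 := by
    refine (CharP.charP_iff_prime_eq_zero Nat.prime_two).mpr ?_
    exact_mod_cast h2
  have h : 2 ∣ Fintype.card F := by
    obtain ⟨m, _, hc⟩ := FiniteField.card F 2
    rw [hc]
    exact dvd_pow_self 2 m.ne_zero
  exact (Nat.not_even_iff_odd.mpr hq) (even_iff_two_dvd.mpr h)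

/-- The number of fixed vectors on the level set through `v₀` is `2`. -/
theorem card_fixed_level {F : Type u} [Field F] [Fintype F] (hq : Odd (Fintype.card F)) (n : ℕ)
    (t : Matrix (OI n) (OI n) F) (v₀ : OI n → F) (hv₀ : Cfsg.quadFormOdd n F v₀ ≠ 0)
    (ht : t *ᵥ v₀ = v₀) (hfix : ∀ w, t *ᵥ w = w → ∃ c : F, w = c • v₀) :
    Nat.card {v : OI n → F //
      Cfsg.quadFormOdd n F v - Cfsg.quadFormOdd n F v₀ = 0 ∧ t *ᵥ v = v} = 2 := by
  classical
  have h2 : (2 : F) ≠ 0 := two_ne_zero_of_odd_card hq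
  have hne0 : v₀ ≠ 0 := by
    rintro rfl
    apply hv₀
    have := quadFormOdd_smul n (0 : F) (0 : OI n → F)
    rw [zero_smul] at this
    rw [this]; simp
  have hneg : -v₀ ≠ v₀ := by
    intro h
    apply hne0
    funext i
    have hi := congrFun h i
    simp only [Pi.neg_apply] at hi
    have : (2 : F) * v₀ i = 0 := by linear_combination -hi
    rcases mul_eq_zero.mp this with h' | h'
    · exact absurd h' h2
    · simpa using h'
  have hset : {v : OI n → F |
      Cfsg.quadFormOdd n F v - Cfsg.quadFormOdd n F v₀ = 0 ∧ t *ᵥ v = v} = {v₀, -v₀} := by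
    ext v
    simp only [Set.mem_ofPred_eq, Set.mem_insert_iff, Set.mem_singleton_iff]
    constructor
    · rintro ⟨hQ, htv⟩
      obtain ⟨c, rfl⟩ := hfix v htv
      rw [quadFormOdd_smul, sub_eq_zero] at hQ
      have hc : c ^ 2 = 1 := by
        have : (c ^ 2 - 1) * Cfsg.quadFormOdd n F v₀ = 0 := by linear_combination hQ
        rcases mul_eq_zero.mp this with h' | h'
        · linear_combination h'
        · exact absurd h' hv₀
      have hc' : (c - 1) * (c + 1) = 0 := by linear_combination hc
      rcases mul_eq_zero.mp hc' with h' | h'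
      · left
        have : c = 1 := by linear_combination h'
        rw [this, one_smul]
      · right
        have : c = -1 := by linear_combination h'
        rw [this, neg_smul, one_smul]
    · rintro (rfl | rfl)
      · exact ⟨sub_self _, ht⟩
      · refine ⟨?_, ?_⟩
        · have := quadFormOdd_smul n (-1 : F) v₀
          rw [neg_smul, one_smul] at this
          rw [this]; ring
        · rw [Matrix.mulVec_neg, ht]
  have : Nat.card {v : OI n → F //
      Cfsg.quadFormOdd n F v - Cfsg.quadFormOdd n F v₀ = 0 ∧ t *ᵥ v = v} =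
      Nat.card ({v₀, -v₀} : Set (OI n → F)) := by
    rw [← hset]; rfl
  rw [this, Nat.card_coe_set_eq, Set.ncard_pair (Ne.symm hneg)]

theorem pkgCong : PkgCong.{u} := by
  intro hLevel F _ _ hq n s hs t hQ hts v₀ hv₀ ht hfix
  classical
  have hfree := Cfsg.Agent.Lib.Helper85.OCls.pkgFree
    (fun v : OI n → F => Cfsg.quadFormOdd n F v - Cfsg.quadFormOdd n F v₀) t s hs
    (fun v => by simp only [hQ]) hts
  rw [card_fixed_level hq n t v₀ hv₀ ht hfix] at hfree
  have hcard : Nat.card {v : OI n → F //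
      Cfsg.quadFormOdd n F v - Cfsg.quadFormOdd n F v₀ = 0} =
      Nat.card {v : OI n → F // Cfsg.quadFormOdd n F v = Cfsg.quadFormOdd n F v₀} := by
    apply Nat.card_congr
    exact Equiv.subtypeEquivRight (fun v => sub_eq_zero)
  rw [hcard] at hfree
  obtain ⟨hsq, hnsq⟩ := hLevel hq n (Cfsg.quadFormOdd n F v₀) hv₀
  refine ⟨fun h => ?_, fun h => ?_⟩
  · rw [← hsq h]; exact_mod_cast hfree
  · rw [← hnsq h]; exact_mod_cast hfree

end Cfsg.Agent.Lib.Helper38.PG
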